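import Cfsg.Agent.H697.SympType
import Cfsg.Agent.H697.Alm.Defs

/-!
# S4790, T4: a normal subgroup of symplectic type, the exact bound
-/

set_option autoImplicit false
set_option linter.style.haveILetI false

universe u

namespace Cfsg.Agent.H697.Alm

open Subgroup Module
open Cfsg.Agent.H553 Cfsg.Agent.H697.SympType

section abstract

theorem card_sp_exact (r n : ℕ) [Fact r.Prime] :
    Nat.card (Matrix.symplecticGroup (Fin n) (ZMod r)) = r ^ (n ^ 2) * ∏ i ∈ Finset.range n, (r ^ (2 * (i + 1)) - 1) := by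
  rw [LieClassical.SympCount.card_symplecticGroup, ZMod.card]

theorem add_sp2 {r : ℕ} [hr : Fact r.Prime] {W : Type u} [AddCommGroup W] [Module (ZMod r) W]
    [Finite W] {S : Type*} [Group S] [Finite S] (φ : S → (W → W))
    (hφa : ∀ s x y, φ s (x + y) = φ s x + φ s y)
    (hφ1 : ∀ x, φ 1 x = x) (hφm : ∀ s t x, φ (s * t) x = φ s (φ t x))
    (hφ : ∀ s, (∀ x, φ s x = x) → s = 1)
    (c : W → W → ZMod r) (hl : ∀ x y z, c (x + y) z = c x z + c y z)
    (hrr : ∀ x y z, c x (y + z) = c x y + c x z) (halt : ∀ x, c x x = 0)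
    (hnd : ∀ x, (∀ y, c x y = 0) → x = 0) (hinv : ∀ s x y, c (φ s x) (φ s y) = c x y) :
    (∃ n : ℕ, Nat.card W = r ^ (2 * n) ∧ Nat.card S ≤ r ^ (n ^ 2) * ∏ i ∈ Finset.range n, (r ^ (2 * (i + 1)) - 1)) ∧
      ∀ f : W → ZMod r, (∀ x y, f (x + y) = f x + f y) → ∃ a, ∀ b, c a b = f b := by
  have hfd : Module.Finite (ZMod r) W := Module.Finite.of_finite
  let c₁ : W → (W →ₗ[ZMod r] ZMod r) := fun x =>
    AddMonoidHom.toZModLinearMap r (AddMonoidHom.mk' (fun y : W => c x y) (fun y z => hrr _ _ _))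
  have hc₁ : ∀ x y, c₁ x y = c x y := fun x y => by
    change AddMonoidHom.toZModLinearMap r _ y = _
    rw [AddMonoidHom.coe_toZModLinearMap]
    rfl
  let B : LinearMap.BilinForm (ZMod r) W :=
    AddMonoidHom.toZModLinearMap r (AddMonoidHom.mk' c₁ (fun x y => by
      refine LinearMap.ext fun z => ?_
      rw [LinearMap.add_apply, hc₁, hc₁, hc₁]
      exact hl _ _ _))
  have hB1 : ∀ x, B x = c₁ x := fun x => by
    change AddMonoidHom.toZModLinearMap r _ x = _
    rw [AddMonoidHom.coe_toZModLinearMap]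
    rfl
  have hB : ∀ x y, B x y = c x y := fun x y => by
    rw [hB1]
    exact hc₁ x y
  let ρ : S →* Module.End (ZMod r) W :=
    { toFun := fun g => AddMonoidHom.toZModLinearMap r
        (AddMonoidHom.mk' (fun x : W => φ g x) (fun x y => hφa g x y))
      map_one' := by
        refine LinearMap.ext fun x => ?_
        rw [AddMonoidHom.coe_toZModLinearMap, Module.End.one_apply]
        exact hφ1 x
      map_mul' := fun g h => by
        refine LinearMap.ext fun x => ?_
        rw [Module.End.mul_apply, AddMonoidHom.coe_toZModLinearMap,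
          AddMonoidHom.coe_toZModLinearMap, AddMonoidHom.coe_toZModLinearMap]
        exact hφm g h x }
  have hρ : ∀ (g : S) (x : W), ρ g x = φ g x := fun g x => by
    change AddMonoidHom.toZModLinearMap r _ x = _
    rw [AddMonoidHom.coe_toZModLinearMap]
    rfl
  have hnd' : ∀ v : W, (∀ w, B v w = 0) → v = 0 := fun v hv =>
    hnd v (fun w => by rw [← hB]; exact hv w)
  constructor
  · obtain ⟨n, hn, f, hf⟩ := Sy.exists_embedding ρ (by
      rw [injective_iff_map_eq_one]
      intro s hs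
      apply hφ
      intro x
      rw [← hρ, hs, Module.End.one_apply]) B (fun v => by rw [hB]; exact halt _) hnd'
      (fun s v w => by rw [hB, hB, hρ, hρ]; exact hinv s _ _)
    exact ⟨n, hn, (Nat.card_le_card_of_injective f hf).trans (card_sp_exact r n).le⟩
  · intro f hf
    let f₁ : W →ₗ[ZMod r] ZMod r :=
      AddMonoidHom.toZModLinearMap r (AddMonoidHom.mk' (fun x : W => f x) (fun x y => hf _ _))
    have hf₁ : ∀ x : W, f₁ x = f x := fun x => by
      change AddMonoidHom.toZModLinearMap r _ x = _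
      rw [AddMonoidHom.coe_toZModLinearMap]
      rfl
    have hBi : Function.Injective B := by
      rw [← LinearMap.ker_eq_bot, LinearMap.ker_eq_bot']
      intro v hv
      apply hnd'
      intro w
      rw [hv, LinearMap.zero_apply]
    have hBs : Function.Surjective B :=
      (LinearMap.injective_iff_surjective_of_finrank_eq_finrank
        (Subspace.dual_finrank_eq (K := ZMod r) (V := W)).symm).1 hBi
    obtain ⟨a, ha⟩ := hBs f₁
    refine ⟨a, fun b => ?_⟩
    have h1 := LinearMap.congr_fun ha b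
    rw [hB, hf₁] at h1
    exact h1

variable {M : Type u} [CommGroup M] [Finite M] {r : ℕ} [hr : Fact r.Prime]

/-- Nondegenerate forms: additive functionals are represented, and isometries embed in the
symplectic group. -/
theorem abs_sp2 (hexp : ∀ x : M, x ^ r = 1) {S : Type*} [Group S] [Finite S] (φ : S → (M → M))
    (hφa : ∀ s x y, φ s (x * y) = φ s x * φ s y)
    (hφ1 : ∀ x, φ 1 x = x) (hφm : ∀ s t x, φ (s * t) x = φ s (φ t x))
    (hφ : ∀ s, (∀ x, φ s x = x) → s = 1)
    (c : M → M → ZMod r) (hl : ∀ x y z, c (x * y) z = c x z + c y z)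
    (hrr : ∀ x y z, c x (y * z) = c x y + c x z) (halt : ∀ x, c x x = 0)
    (hnd : ∀ x, (∀ y, c x y = 0) → x = 1) (hinv : ∀ s x y, c (φ s x) (φ s y) = c x y) :
    (∃ n : ℕ, Nat.card M = r ^ (2 * n) ∧ Nat.card S ≤ r ^ (n ^ 2) * ∏ i ∈ Finset.range n, (r ^ (2 * (i + 1)) - 1)) ∧
      ∀ f : M → ZMod r, (∀ x y, f (x * y) = f x + f y) → ∃ a, ∀ b, c a b = f b := by
  have hm : Module (ZMod r) (Additive M) :=
    AddCommGroup.zmodModule (fun x : Additive M => congrArg Additive.ofMul (hexp x.toMul))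
  exact add_sp2 (W := Additive M) (fun s x => Additive.ofMul (φ s x.toMul))
    (fun s x y => congrArg Additive.ofMul (hφa s x.toMul y.toMul))
    (fun x => congrArg Additive.ofMul (hφ1 x.toMul))
    (fun s t x => congrArg Additive.ofMul (hφm s t x.toMul))
    (fun s h => hφ s (fun x => congrArg Additive.toMul (h (Additive.ofMul x))))
    (fun x y => c x.toMul y.toMul) (fun x y z => hl _ _ _) (fun x y z => hrr _ _ _)
    (fun x => halt _) (fun x h => congrArg Additive.ofMul (hnd x.toMul fun y => h (Additive.ofMul y)))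
    (fun s x y => hinv s _ _)


end abstract

variable {C : Type u} [Group C]

theorem exists_LA {A : Subgroup C} [Finite A] (hAc : IsCyclic A) (r : ℕ) [hr : Fact r.Prime] :
    ∃ L : C → ZMod r, (∀ a ∈ A, a ^ r = 1 → ∀ b ∈ A, b ^ r = 1 → L (a * b) = L a + L b) ∧
      (∀ a ∈ A, a ^ r = 1 → L a = 0 → a = 1) := by
  classical
  have hcom : ∀ a b : A, a * b = b * a := fun a b => (IsCyclic.commGroup (α := A)).mul_comm a b
  have hcen : center A = ⊤ := by
    rw [eq_top_iff]
    intro a _
    rw [mem_center_iff]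
    exact fun b => hcom b a
  have hcyc : IsCyclic (center A) := by
    rw [hcen]
    exact isCyclic_of_surjective (topEquiv (G := A)).symm.toMonoidHom (topEquiv (G := A)).symm.surjective
  obtain ⟨L, hL1, hL2⟩ := CF.exists_L hcyc r
  refine ⟨fun x => if h : x ∈ A then L ⟨x, h⟩ else 0, ?_, ?_⟩
  · intro a ha har b hb hbr
    have hab : a * b ∈ A := A.mul_mem ha hb
    simp only [ha, hb, hab, dif_pos]
    exact hL1 ⟨a, ha⟩ ⟨b, hb⟩ (by rw [hcen]; trivial) (Subtype.ext har) (by rw [hcen]; trivial) (Subtype.ext hbr)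
  · intro a ha har h0
    simp only [ha, dif_pos] at h0
    exact congrArg Subtype.val (hL2 ⟨a, ha⟩ (by rw [hcen]; trivial) (Subtype.ext har) h0)

variable [Finite C]

/-- **Symplectic type.** `N / A` elementary abelian with `A` central cyclic and `C_C(N) ≤ A`. -/
theorem symp_layer {A N : Subgroup C} (hAN : A ≤ N) (hA : A ≤ center C) (hAc : IsCyclic A)
    (hN : N.Normal) {r : ℕ} [hr : Fact r.Prime] (hexp : ∀ x ∈ N, x ^ r ∈ A)
    (hcomm : ∀ x ∈ N, ∀ y ∈ N, x * y * x⁻¹ * y⁻¹ ∈ A)
    (hZ : ∀ x ∈ N, (∀ y ∈ N, x * y = y * x) → x ∈ A) :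
    ∃ j : ℕ, A.relIndex N = r ^ (2 * j) ∧ (centralizer (N : Set C)).index ≤
      r ^ (2 * j) * (r ^ (j ^ 2) * ∏ i ∈ Finset.range j, (r ^ (2 * (i + 1)) - 1)) := by
  classical
  obtain ⟨K, hKdef⟩ : ∃ K : Subgroup C, K = N ⊔ centralizer (N : Set C) := ⟨_, rfl⟩
  have hKn : K.Normal := by rw [hKdef]; infer_instance
  have hNK : N ≤ K := by rw [hKdef]; exact le_sup_left
  have hCK : centralizer (N : Set C) ≤ K := by rw [hKdef]; exact le_sup_right
  have hKmem : ∀ g : C, g ∈ K → ∃ n ∈ N, ∃ c ∈ centralizer (N : Set C), n * c = g := by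
    intro g hg
    rw [hKdef] at hg
    exact Subgroup.mem_sup_of_normal_left.1 hg
  have hcomm' : ∀ x ∈ N, ∀ y ∈ N, cm x y ∈ A := hcomm
  obtain ⟨L, hL1, hL2⟩ := exists_LA hAc r
  have hzc : ∀ a ∈ A, ∀ x : C, a * x = x * a := fun a ha x =>
    (mem_center_iff.1 (hA ha) x).symm
  have hAx : ∀ a ∈ A, ∀ x : C, cm a x = 1 := fun a ha x => cm_eq_one.2 (hzc a ha x)
  have hxA : ∀ a ∈ A, ∀ x : C, cm x a = 1 := fun a ha x => cm_eq_one.2 (hzc a ha x).symm
  have hpow : ∀ x : C, (∀ y ∈ N, cm x y ∈ A) → ∀ y ∈ N, cm x y ^ r = 1 := by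
    intro x hx y hy
    have h1 : ∀ k : ℕ, cm x (y ^ k) = cm x y ^ k := by
      intro k
      induction k with
      | zero => rw [pow_zero, pow_zero]; exact hxA 1 A.one_mem x
      | succ k ih => rw [pow_succ, cm_mul_right (hzc _ (hx y hy)), ih, pow_succ]
    rw [← h1]
    exact hxA _ (hexp y hy) x
  have hLadd : ∀ a ∈ A, a ^ r = 1 → ∀ b ∈ A, b ^ r = 1 → L (a * b) = L a + L b :=
    fun a ha har b hb hbr => hL1 a ha har b hb hbr
  have hLinj : ∀ a ∈ A, a ^ r = 1 → ∀ b ∈ A, b ^ r = 1 → L a = L b → a = b := by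
    intro a ha har b hb hbr hab
    have hinv : b⁻¹ ^ r = 1 := by rw [inv_pow, hbr, inv_one]
    have h1 : L (a * b⁻¹) = 0 := by
      have h2 := hLadd (a * b⁻¹) (A.mul_mem ha (A.inv_mem hb))
        (by
          have h3 : Commute a b⁻¹ := hzc a ha b⁻¹
          rw [h3.mul_pow, har, hinv, one_mul]) b hb hbr
      rw [inv_mul_cancel_right, hab] at h2
      exact left_eq_add.1 (by rw [add_comm]; exact h2)
    have h3 := hL2 (a * b⁻¹) (A.mul_mem ha (A.inv_mem hb)) (by
          have h3 : Commute a b⁻¹ := hzc a ha b⁻¹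
          rw [h3.mul_pow, har, hinv, one_mul]) h1
    exact mul_inv_eq_one.1 h3
  -- the quotient
  let A' : Subgroup N := A.subgroupOf N
  have hA'n : A'.Normal := by
    refine ⟨fun x hx g => ?_⟩
    rw [mem_subgroupOf] at hx ⊢
    have h1 : ((g * x * g⁻¹ : N) : C) = x := by
      push_cast
      rw [← hzc x hx g, mul_inv_cancel_right]
    rw [h1]
    exact hx
  let M := N ⧸ A'
  have hmk : ∀ x y : N, (QuotientGroup.mk x : M) = QuotientGroup.mk y ↔ (x : C)⁻¹ * y ∈ A := by
    intro x y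
    rw [QuotientGroup.eq]
    rfl
  letI : CommGroup M :=
    { (inferInstance : Group M) with
      mul_comm := by
        intro a b
        obtain ⟨x, rfl⟩ := QuotientGroup.mk_surjective a
        obtain ⟨y, rfl⟩ := QuotientGroup.mk_surjective b
        rw [← QuotientGroup.mk_mul, ← QuotientGroup.mk_mul, hmk]
        have h1 := hcomm' (y : C)⁻¹ (N.inv_mem y.2) (x : C)⁻¹ (N.inv_mem x.2)
        unfold cm at h1
        push_cast
        convert h1 using 1
        group }
  have hexpM : ∀ m : M, m ^ r = 1 := by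
    intro m
    obtain ⟨x, rfl⟩ := QuotientGroup.mk_surjective m
    rw [← QuotientGroup.mk_pow, ← QuotientGroup.mk_one, eq_comm, hmk]
    push_cast
    rw [inv_one, one_mul]
    exact hexp x x.2
  have hwd : ∀ x y a b : C, a ∈ A → b ∈ A → cm (x * a) (y * b) = cm x y := by
    intro x y a b ha hb
    have h1 : cm (x * a) (y * b) = cm x (y * b) := by
      rw [cm_mul_left (by rw [hAx a ha]; intro g; rw [one_mul, mul_one]), hAx a ha, mul_one]
    rw [h1, cm_mul_right (by rw [hxA b hb]; intro g; rw [one_mul, mul_one]), hxA b hb, mul_one]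
  let c : M → M → ZMod r := fun a b => L (cm ((Quotient.out a : N) : C) ((Quotient.out b : N) : C))
  have hc : ∀ x y : N, c (QuotientGroup.mk x) (QuotientGroup.mk y) = L (cm (x : C) (y : C)) := by
    intro x y
    have h1 : ∀ z : N, ∃ a ∈ A, ((Quotient.out (QuotientGroup.mk z : M) : N) : C) = z * a := by
      intro z
      refine ⟨(z : C)⁻¹ * ((Quotient.out (QuotientGroup.mk z : M) : N) : C), ?_, by group⟩
      rw [← hmk]
      exact (QuotientGroup.out_eq' _).symm
    obtain ⟨a, ha, hax⟩ := h1 x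
    obtain ⟨b, hb, hby⟩ := h1 y
    show L (cm _ _) = _
    rw [hax, hby, hwd _ _ _ _ ha hb]
  have hcN : ∀ x y : N, cm (x : C) (y : C) ∈ A := fun x y => hcomm' x x.2 y y.2
  have hcNr : ∀ x y : N, cm (x : C) (y : C) ^ r = 1 := fun x y =>
    hpow x (fun z hz => hcomm' x x.2 z hz) y y.2
  have hl : ∀ a b d : M, c (a * b) d = c a d + c b d := by
    intro a b d
    obtain ⟨x, rfl⟩ := QuotientGroup.mk_surjective a
    obtain ⟨y, rfl⟩ := QuotientGroup.mk_surjective b
    obtain ⟨z, rfl⟩ := QuotientGroup.mk_surjective d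
    rw [← QuotientGroup.mk_mul, hc, hc, hc, ← hLadd _ (hcN _ _) (hcNr _ _) _ (hcN _ _) (hcNr _ _)]
    congr 1
    push_cast
    exact cm_mul_left (hzc _ (hcN _ _))
  have hrr : ∀ a b d : M, c a (b * d) = c a b + c a d := by
    intro a b d
    obtain ⟨x, rfl⟩ := QuotientGroup.mk_surjective a
    obtain ⟨y, rfl⟩ := QuotientGroup.mk_surjective b
    obtain ⟨z, rfl⟩ := QuotientGroup.mk_surjective d
    rw [← QuotientGroup.mk_mul, hc, hc, hc, ← hLadd _ (hcN _ _) (hcNr _ _) _ (hcN _ _) (hcNr _ _)]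
    congr 1
    push_cast
    exact cm_mul_right (hzc _ (hcN _ _))
  have halt : ∀ a : M, c a a = 0 := by
    intro a
    obtain ⟨x, rfl⟩ := QuotientGroup.mk_surjective a
    rw [hc]
    have h1 : cm (x : C) (x : C) = 1 := cm_eq_one.2 rfl
    have h2 := hLadd 1 A.one_mem (one_pow r) 1 A.one_mem (one_pow r)
    rw [mul_one] at h2
    rw [h1]
    exact left_eq_add.1 h2
  have hL1' : L 1 = 0 := by
    have h2 := hLadd 1 A.one_mem (one_pow r) 1 A.one_mem (one_pow r)
    rw [mul_one] at h2
    exact left_eq_add.1 h2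
  have hnd : ∀ a : M, (∀ b, c a b = 0) → a = 1 := by
    intro a ha
    obtain ⟨x, rfl⟩ := QuotientGroup.mk_surjective a
    rw [← QuotientGroup.mk_one, eq_comm, hmk]
    push_cast
    rw [inv_one, one_mul]
    refine hZ _ x.2 fun y hy => ?_
    have h1 := ha (QuotientGroup.mk ⟨y, hy⟩)
    rw [hc] at h1
    have h2 := hL2 _ (hcN x ⟨y, hy⟩) (hcNr x ⟨y, hy⟩) h1
    exact cm_eq_one.1 h2
  -- the action
  let φ : C ⧸ K → (M → M) := fun s =>
    QuotientGroup.map A' A' (MulAut.conjNormal (H := N) (Quotient.out s)).toMonoidHom (by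
      intro x hx
      rw [mem_comap, mem_subgroupOf]
      rw [mem_subgroupOf] at hx
      have h1 : ((MulAut.conjNormal (Quotient.out s) x : N) : C) = x := by
        rw [MulAut.conjNormal_apply, ← hzc x hx, mul_inv_cancel_right]
      show ((MulAut.conjNormal (Quotient.out s) x : N) : C) ∈ A
      rw [h1]
      exact hx)
  have hφ : ∀ (g : C) (x : N), φ (QuotientGroup.mk g) (QuotientGroup.mk x) =
      QuotientGroup.mk (⟨g * x * g⁻¹, hN.conj_mem x x.2 g⟩ : N) := by
    intro g x
    have h1 : φ (QuotientGroup.mk g) (QuotientGroup.mk x) =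
      (QuotientGroup.mk (MulAut.conjNormal (Quotient.out (QuotientGroup.mk g : C ⧸ K)) x : N) : M) :=
      rfl
    rw [h1, hmk, MulAut.conjNormal_apply]
    have h2 : (Quotient.out (QuotientGroup.mk g : C ⧸ K))⁻¹ * g ∈ K := by
      rw [← QuotientGroup.eq]
      exact QuotientGroup.out_eq' _
    set k := Quotient.out (QuotientGroup.mk g : C ⧸ K)
    have h3 : cm (x : C)⁻¹ (k⁻¹ * g) ∈ A := by
      obtain ⟨n, hn, c, hc, hnc⟩ := hKmem _ h2
      have h31 : cm (x : C)⁻¹ (n * c) = cm (x : C)⁻¹ n := by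
        have h32 : (x : C) * c = c * x := (mem_centralizer_iff.1 hc (x : C) x.2)
        have h33 : c * (x : C) * c⁻¹ = x := by rw [← h32, mul_inv_cancel_right]
        have h34 : cm (x : C)⁻¹ (n * c) = (x : C)⁻¹ * n * (c * x * c⁻¹) * n⁻¹ := by unfold cm; group
        rw [h34, h33]
        unfold cm
        group
      rw [← hnc, h31]
      exact hcomm' (x : C)⁻¹ (N.inv_mem x.2) n hn
    have h4 : (k * (x : C) * k⁻¹)⁻¹ * (g * x * g⁻¹) = k * cm (x : C)⁻¹ (k⁻¹ * g) * k⁻¹ := by
      unfold cm; group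
    show (k * (x : C) * k⁻¹)⁻¹ * (g * x * g⁻¹) ∈ A
    rw [h4, ← hzc _ h3 k, mul_inv_cancel_right]
    exact h3
  have hfinM : Finite M := inferInstanceAs (Finite (N ⧸ A'))
  obtain ⟨⟨n, hn1, hn2⟩, hdual⟩ := abs_sp2 (M := M) (r := r) hexpM (S := C ⧸ K) φ
    (by
      intro s a b
      obtain ⟨g, rfl⟩ := QuotientGroup.mk_surjective s
      obtain ⟨x, rfl⟩ := QuotientGroup.mk_surjective a
      obtain ⟨y, rfl⟩ := QuotientGroup.mk_surjective b
      rw [← QuotientGroup.mk_mul, hφ, hφ, hφ, ← QuotientGroup.mk_mul]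
      congr 1
      apply Subtype.ext
      push_cast
      group)
    (by
      intro a
      obtain ⟨x, rfl⟩ := QuotientGroup.mk_surjective a
      rw [← QuotientGroup.mk_one, hφ]
      congr 1
      apply Subtype.ext
      push_cast
      group)
    (by
      intro s t a
      obtain ⟨g, rfl⟩ := QuotientGroup.mk_surjective s
      obtain ⟨h, rfl⟩ := QuotientGroup.mk_surjective t
      obtain ⟨x, rfl⟩ := QuotientGroup.mk_surjective a
      rw [← QuotientGroup.mk_mul, hφ, hφ, hφ]
      congr 1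
      apply Subtype.ext
      push_cast
      group)
    (by
      intro s hs
      obtain ⟨g, rfl⟩ := QuotientGroup.mk_surjective s
      have hgN : ∀ x ∈ N, cm g x ∈ A := by
        intro x hx
        have h1 := hs (QuotientGroup.mk ⟨x, hx⟩)
        rw [hφ, hmk] at h1
        have h2 := A.inv_mem h1
        have h3 : cm g x = x * ((g * x * g⁻¹)⁻¹ * x)⁻¹ * x⁻¹ := by unfold cm; group
        rw [h3]
        have h4 := hzc _ h2 x
        rw [← h4, mul_inv_cancel_right]
        exact h2
      let f : M → ZMod r := fun a => L (cm g ((Quotient.out a : N) : C))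
      have hf : ∀ x : N, f (QuotientGroup.mk x) = L (cm g (x : C)) := by
        intro x
        show L (cm g ((Quotient.out (QuotientGroup.mk x : M) : N) : C)) = _
        have ha : (x : C)⁻¹ * ((Quotient.out (QuotientGroup.mk x : M) : N) : C) ∈ A := by
          rw [← hmk]
          exact (QuotientGroup.out_eq' _).symm
        have hx : ((Quotient.out (QuotientGroup.mk x : M) : N) : C) =
            x * ((x : C)⁻¹ * ((Quotient.out (QuotientGroup.mk x : M) : N) : C)) := by group
        rw [hx, cm_mul_right (by rw [hxA _ ha]; intro g; rw [one_mul, mul_one]), hxA _ ha, mul_one]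
      obtain ⟨a, ha⟩ := abs_dual hexpM c hl hrr halt hnd f (by
        intro a b
        obtain ⟨x, rfl⟩ := QuotientGroup.mk_surjective a
        obtain ⟨y, rfl⟩ := QuotientGroup.mk_surjective b
        rw [← QuotientGroup.mk_mul, hf, hf, hf, ← hLadd _ (hgN x x.2) (hpow g hgN x x.2) _
          (hgN y y.2) (hpow g hgN y y.2)]
        congr 1
        push_cast
        exact cm_mul_right (hzc _ (hgN y y.2)))
      obtain ⟨n, rfl⟩ := QuotientGroup.mk_surjective a
      have h1 : (n : C)⁻¹ * g ∈ centralizer (N : Set C) := by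
        rw [mem_centralizer_iff]
        intro x hx
        have h2 := ha (QuotientGroup.mk ⟨x, hx⟩)
        rw [hc, hf] at h2
        have h3 := hLinj _ (hcN n ⟨x, hx⟩) (hcNr n ⟨x, hx⟩) _ (hgN x hx) (hpow g hgN x hx) h2
        have h4 : (n : C) * x * (n : C)⁻¹ = g * x * g⁻¹ := mul_right_cancel h3
        have h5 : x * ((n : C)⁻¹ * g) = (n : C)⁻¹ * (n * x * (n : C)⁻¹) * g := by group
        rw [h5, h4]
        group
      rw [← QuotientGroup.mk_one, QuotientGroup.eq, mul_one]
      have h6 : g = (n : C) * ((n : C)⁻¹ * g) := by group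
      rw [h6]
      exact K.inv_mem (K.mul_mem (hNK n.2) (hCK h1))) c hl hrr halt hnd
    (by
      intro s a b
      obtain ⟨g, rfl⟩ := QuotientGroup.mk_surjective s
      obtain ⟨x, rfl⟩ := QuotientGroup.mk_surjective a
      obtain ⟨y, rfl⟩ := QuotientGroup.mk_surjective b
      rw [hφ, hφ, hc, hc, ← conj_cm, ← hzc _ (hcN x y) g, mul_inv_cancel_right])
  have hrel : A.relIndex N = r ^ (2 * n) := hn1
  refine ⟨n, hrel, ?_⟩
  have hinf : N ⊓ centralizer (N : Set C) = A := by
    apply le_antisymm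
    · rintro x ⟨hx, hxc⟩
      exact hZ x hx fun y hy => (mem_centralizer_iff.1 hxc y hy).symm
    · intro a ha
      exact ⟨hAN ha, mem_centralizer_iff.2 fun y _ => (hzc a ha y).symm⟩
  have h1 : (centralizer (N : Set C)).relIndex K = A.relIndex N := by
    have hn : (centralizer (N : Set C)).Normal := inferInstance
    rw [hKdef, Subgroup.relIndex_sup_right, ← hinf, Subgroup.inf_relIndex_left]
  have h2 : K.index ≤ r ^ (n ^ 2) * ∏ i ∈ Finset.range n, (r ^ (2 * (i + 1)) - 1) := hn2
  rw [← Subgroup.relIndex_mul_index hCK, h1, hrel]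
  exact Nat.mul_le_mul le_rfl h2

end Cfsg.Agent.H697.Alm
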