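import Cfsg.Agent.H697.Alm.Bnd
import Cfsg.Agent.H164.S4790.Str
import Cfsg.Agent.H832.S4790.Chain
import Cfsg.Agent.H984.S4790.CompsMain

/-!
# S4790: the structure of a primitive coprime linear group
-/

set_option autoImplicit false

namespace Cfsg.Agent.H697.Alm

open Module

universe u

variable {D E : Type u} [Group D] [Finite D] [AddCommGroup E] [Finite E] [Nontrivial E] [DistribMulAction D E]
  [FaithfulSMul D E] {F : Type u} [Field F] [Finite F] [Module F E]

theorem str {p m : ℕ} (hp : p.Prime) (h23 : 23 ≤ p) (hpE : ∀ e : E, p • e = 0) (hcop : ¬ p ∣ Nat.card D)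
    (fr : Fr D E F) (hm : finrank F E = m)
    (hB : ∀ (T : Type u) [Group T] [Finite T] [IsSimpleGroup T], ¬ IsMulCommutative T → BndT T)
    (hT : ∀ (T : Type u) [Group T] [Finite T] [IsSimpleGroup T], ¬ IsMulCommutative T → H698.Rep.{u, u} p 2 T →
      Nat.card T = 60 ∧ Nat.card (MulAut T) ≤ 120) :
    (m = 1 → CF D E F = AF D E F) ∧ (AF D E F).relIndex (CF D E F) ≤ 6 * p ^ (m - 1) ∧
      ((AF D E F).relIndex (CF D E F) * (p - 1) ≤ p ^ m - 1 ∨
        (3 ≤ m ∧ ∃ K : Subgroup D, IsComponent K ∧ K.Normal ∧ H698.Rep.{u, u} p m (K ⧸ Subgroup.center K) ∧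
          CF D E F ⊓ Subgroup.centralizer (K : Set D) = AF D E F) ∨
        (m = 2 ∧ ∃ K : Subgroup D, IsComponent K) ∨
        (m = 4 ∧ (AF D E F).relIndex (CF D E F) ≤ 28800 ∧ 15 ∣ (AF D E F).relIndex (CF D E F))) :=
  H164.S4790.str_of hp h23 hcop fr hm (fun T _ _ _ h => hB T h) (fun T _ _ _ h hR => hT T h hR)
    (fun D' _ hC hA hK => H832.S4790.Chain.chain hp h23 hpE hcop fr D' hC hA hK)
    (H984.S4790.comps hp hpE hcop fr)

end Cfsg.Agent.H697.Alm
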