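import Mathlib
import Cfsg.Agent.H697.Alm.Str
import Cfsg.Agent.H813.S4790.Frame
import Cfsg.Agent.H615.S4790.Count
import Cfsg.Agent.H930.S4790.Small
import Cfsg.Agent.H724.S4790.PsTwo
import Cfsg.Agent.H41.S4790.Imprim
import Cfsg.Agent.H61.S4790.LinSmall
import Cfsg.Agent.H680.S4790.Two
import Cfsg.Agent.H698.MainRes

/-!
# S4790: coprime irreducible linear groups, `4 (p - 1) < (k + r) ^ 2`
-/

set_option autoImplicit false

namespace Cfsg.Agent.H697.Alm

open Module

universe u

section

variable {D E : Type u} [Group D] [Finite D] [AddCommGroup E] [Finite E] [DistribMulAction D E]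

/-- every orbit has at most `|D|` elements -/
theorem card_le_orb : Nat.card E ≤ orb D E * Nat.card D + 1 := by
  classical
  let q0 : MulAction.orbitRel.Quotient D E := Quotient.mk'' (0 : E)
  have hfib : ∀ e : E, (Quotient.mk'' e : MulAction.orbitRel.Quotient D E) = q0 → e = 0 := by
    intro e he
    have h1 : e ∈ MulAction.orbit D (0 : E) := MulAction.orbitRel_apply.1 (Quotient.exact he)
    obtain ⟨d, hd⟩ := h1
    rw [← hd]
    exact smul_zero d
  have : Fintype (MulAction.orbitRel.Quotient D E) := Fintype.ofFinite _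
  have : Fintype E := Fintype.ofFinite E
  have hsum : Fintype.card E = ∑ q : MulAction.orbitRel.Quotient D E,
      (Finset.univ.filter fun e : E => (Quotient.mk'' e : MulAction.orbitRel.Quotient D E) = q).card := by
    rw [← Finset.card_univ]
    exact Finset.card_eq_sum_card_fiberwise fun e _ => Finset.mem_coe.2 (Finset.mem_univ _)
  have hle : ∀ q : MulAction.orbitRel.Quotient D E,
      (Finset.univ.filter fun e : E => (Quotient.mk'' e : MulAction.orbitRel.Quotient D E) = q).card ≤ Nat.card D := by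
    intro q
    obtain ⟨e, rfl⟩ := Quotient.exists_rep q
    have h1 : (Finset.univ.filter fun x : E => (Quotient.mk'' x : MulAction.orbitRel.Quotient D E) = Quotient.mk _ e) =
        (MulAction.orbit D e).toFinset := by
      ext x
      simp only [Finset.mem_filter, Finset.mem_univ, true_and, Set.mem_toFinset]
      rw [← MulAction.orbitRel_apply]
      exact Quotient.eq''
    rw [h1, Set.toFinset_card, ← Nat.card_eq_fintype_card]
    exact Nat.card_le_card_of_surjective (fun d : D => (⟨d • e, ⟨d, rfl⟩⟩ : MulAction.orbit D e))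
      (by rintro ⟨_, ⟨d, rfl⟩⟩; exact ⟨d, rfl⟩)
  rw [Nat.card_eq_fintype_card (α := E), hsum, ← Finset.add_sum_erase _ _ (Finset.mem_univ q0)]
  have h0 : (Finset.univ.filter fun e : E => (Quotient.mk'' e : MulAction.orbitRel.Quotient D E) = q0).card ≤ 1 := by
    rw [Finset.card_le_one]
    intro a ha b hb
    rw [hfib a (Finset.mem_filter.1 ha).2, hfib b (Finset.mem_filter.1 hb).2]
  have h1 := Finset.sum_le_card_nsmul (Finset.univ.erase q0) (fun q : MulAction.orbitRel.Quotient D E =>
      (Finset.univ.filter fun e : E => (Quotient.mk'' e : MulAction.orbitRel.Quotient D E) = q).card) (Nat.card D)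
    (fun q _ => hle q)
  rw [Finset.card_erase_of_mem (Finset.mem_univ _), Finset.card_univ, smul_eq_mul] at h1
  unfold orb
  rw [Nat.card_eq_fintype_card (α := MulAction.orbitRel.Quotient D E)]
  omega

end

section

variable {D E : Type u} [Group D] [Finite D] [AddCommGroup E] [Finite E] [Nontrivial E] [DistribMulAction D E]
  [FaithfulSMul D E]

omit [Nontrivial E] in
/-- the one-dimensional case -/
theorem base {p : ℕ} (hp : p.Prime) (hE : Nat.card E = p) : p - 1 ≤ orb D E * Nat.card (ConjClasses D) := by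
  have : Fact p.Prime := ⟨hp⟩
  have hcyc : IsAddCyclic E := isAddCyclic_of_prime_card (p := p) hE
  obtain ⟨g, hg⟩ := hcyc.exists_generator
  have hcomm : ∀ a b : D, a * b = b * a := by
    intro a b
    apply FaithfulSMul.eq_of_smul_eq_smul (α := E)
    intro e
    have hz : ∀ d : D, ∃ n : ℤ, ∀ x : E, d • x = n • x := by
      intro d
      obtain ⟨n, hn⟩ := AddSubgroup.mem_zmultiples_iff.1 (hg (d • g))
      refine ⟨n, fun x => ?_⟩
      obtain ⟨m, rfl⟩ := AddSubgroup.mem_zmultiples_iff.1 (hg x)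
      rw [smul_comm d m g, ← hn, smul_comm]
    obtain ⟨n, hn⟩ := hz a
    obtain ⟨m, hm⟩ := hz b
    rw [mul_smul, mul_smul, hm e, hn, hn e, hm, smul_comm]
  have hk : Nat.card (ConjClasses D) = Nat.card D := by
    refine (Nat.card_congr (Equiv.ofBijective (ConjClasses.mk : D → ConjClasses D) ⟨?_, ConjClasses.mk_surjective⟩)).symm
    intro a b hab
    obtain ⟨c, hc⟩ := isConj_iff.1 (ConjClasses.mk_eq_mk_iff_isConj.1 hab)
    rw [hcomm, inv_mul_cancel_left] at hc
    exact hc
  have h1 := card_le_orb (D := D) (E := E)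
  rw [hk]
  omega

/-- over the prime field everything is linear -/
theorem CF_eq_top {p : ℕ} (hp : p.Prime) {F : Type u} [Field F] [Finite F] [Module F E] (hF : Nat.card F = p) :
    CF D E F = ⊤ := by
  have : Fact p.Prime := ⟨hp⟩
  rw [eq_top_iff]
  intro d _ c e
  have hcyc : IsAddCyclic F := isAddCyclic_of_prime_card (p := p) hF
  have h1 : ∀ c : F, ∃ n : ℤ, (n : F) = c := by
    intro c
    have hc : AddSubgroup.zmultiples (1 : F) = ⊤ := by
      have hfp : Fact (Nat.card F).Prime := ⟨by rw [hF]; exact hp⟩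
      have h2 := AddSubgroup.eq_bot_or_eq_top_of_prime_card (AddSubgroup.zmultiples (1 : F))
      rcases h2 with h2 | h2
      · exfalso
        rw [AddSubgroup.zmultiples_eq_bot] at h2
        exact one_ne_zero h2
      · exact h2
    have h3 : c ∈ AddSubgroup.zmultiples (1 : F) := by rw [hc]; trivial
    obtain ⟨n, hn⟩ := AddSubgroup.mem_zmultiples_iff.1 h3
    refine ⟨n, ?_⟩
    rw [← hn, zsmul_one]
  obtain ⟨n, rfl⟩ := h1 c
  rw [Int.cast_smul_eq_zsmul, Int.cast_smul_eq_zsmul, smul_comm]

/-- **primitive groups** -/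
theorem ps_prim {p : ℕ} [hpf : Fact p.Prime] (h23 : 23 ≤ p) (hpE : ∀ e : E, p • e = 0) (hcop : ¬ p ∣ Nat.card D)
    (hfine : ∀ (T : Type u) [Group T] [Finite T] [IsSimpleGroup T], ¬ IsMulCommutative T → H698.Fine.{u, u} T)
    (hB : ∀ (T : Type u) [Group T] [Finite T] [IsSimpleGroup T], ¬ IsMulCommutative T → BndT T)
    (hirr : IrrAct D E) (hprim : Prim D E) (hne : Nat.card E ≠ p) (h3 : 3 ≤ orb D E) :
    p - 1 < orb D E * Nat.card (ConjClasses D) := by
  have hp : p.Prime := hpf.out
  obtain ⟨F, _, _, _, fr⟩ := H813.S4790.exists_frame hp hpE hcop hirr hprim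
  have hch : CharP F p := H698.Fld.charP hp hpE
  obtain ⟨a, ha1, hF⟩ : ∃ a : ℕ, 1 ≤ a ∧ Nat.card F = p ^ a := by
    have : Fintype F := Fintype.ofFinite F
    obtain ⟨n, -, hn⟩ := FiniteField.card F p
    exact ⟨n, n.2, by rw [Nat.card_eq_fintype_card, hn]⟩
  obtain ⟨m, hm⟩ : ∃ m, finrank F E = m := ⟨_, rfl⟩
  obtain ⟨h1, h2, h4⟩ := str hp h23 hpE hcop fr hm (fun T _ _ _ h => hB T h)
    (fun T _ _ _ h hR => H680.S4790.two hp (by omega) T h hR)
  by_cases ha : a = 1
  · subst ha
    rw [pow_one] at hF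
    have htop : CF D E F = ⊤ := CF_eq_top hp hF
    rcases h4 with h4 | ⟨hm3, K, hK, hKn, hR, hc⟩ | ⟨hm2, K, hK⟩ | ⟨hm4, h5, h6⟩
    · exact H615.S4790.ps_count hp h23 hpE hcop fr (a := 1) (by rw [pow_one]; exact hF) hm hne h1 h2 (fun _ => h4)
    · exact H615.S4790.ps_comp hp h23 hpE hcop fr hF hm hm3 (fun T _ _ _ h => hfine T h) h3 K hK hKn hR hc
    · exact H930.Alm.ps_small hp h23 hpE hcop hF hm (Or.inl ⟨hm2, K, hK⟩)
    · rw [htop, Subgroup.relIndex_top_right] at h5 h6
      exact H930.Alm.ps_small hp h23 hpE hcop hF hm (Or.inr ⟨hm4, h5, h6⟩)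
  · exact H615.S4790.ps_count hp h23 hpE hcop fr hF hm hne h1 h2 (fun h => absurd h ha)

end

/-- **the product statement** -/
theorem ps_all {p : ℕ} [hpf : Fact p.Prime] (h23 : 23 ≤ p)
    (hfine : ∀ (T : Type u) [Group T] [Finite T] [IsSimpleGroup T], ¬ IsMulCommutative T → H698.Fine.{u, u} T)
    (hB : ∀ (T : Type u) [Group T] [Finite T] [IsSimpleGroup T], ¬ IsMulCommutative T → BndT T)
    (hlin : H697.Three.LinStmt.{u} p) : ∀ (n : ℕ) (D E : Type u) [Group D] [Finite D] [AddCommGroup E] [Finite E]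
      [Nontrivial E] [DistribMulAction D E] [FaithfulSMul D E], Nat.card E ≤ n → (∀ e : E, p • e = 0) →
      ¬ p ∣ Nat.card D → IrrAct D E → PS p D E := by
  have hp : p.Prime := hpf.out
  intro n
  induction n with
  | zero =>
    intro D E _ _ _ _ _ _ _ hn
    exact absurd hn (by have := Nat.card_pos (α := E); omega)
  | succ n ih =>
    intro D E _ _ _ _ _ _ _ hn hpE hcop hirr
    by_cases hE : Nat.card E = p
    · exact ⟨base hp hE, fun h => absurd hE h⟩
    · have key : p - 1 < orb D E * Nat.card (ConjClasses D) := by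
        by_cases h2 : orb D E ≤ 2
        · rcases H724.S4790.ps_two (by omega) hpE hcop hlin hirr hE h2 with h | h
          · omega
          · exact h
        · by_cases hprim : Prim D E
          · exact ps_prim h23 hpE hcop (fun T _ _ _ h => hfine T h) (fun T _ _ _ h => hB T h) hirr hprim hE (by omega)
          · unfold Prim at hprim
            push Not at hprim
            obtain ⟨t, W, hW, ht⟩ := hprim
            refine H41.Imprim.ps_imprim hp hpE hcop hirr (t := t) (by omega) W hW ?_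
            intro D' E' _ _ _ _ _ _ _ hpE' hcop' hirr' hlt
            exact (ih D' E' (by omega) hpE' hcop' hirr').1
      exact ⟨key.le, fun _ => key⟩

section

variable {D E : Type u} [Group D] [Finite D] [AddCommGroup E] [Finite E] [Nontrivial E] [DistribMulAction D E]
  [FaithfulSMul D E]

/-- **the linear part** -/
theorem lin_of {p : ℕ} [hpf : Fact p.Prime] (h5 : 5 ≤ p)
    (hfine : ∀ (T : Type u) [Group T] [Finite T] [IsSimpleGroup T], ¬ IsMulCommutative T → H698.Fine.{u, u} T)
    (hB : ∀ (T : Type u) [Group T] [Finite T] [IsSimpleGroup T], ¬ IsMulCommutative T → BndT T)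
    (hpE : ∀ e : E, p • e = 0) (hcop : ¬ p ∣ Nat.card D) (hirr : IrrAct D E) (hne : Nat.card E ≠ p) :
    4 * (p - 1) < (Nat.card (ConjClasses D) + orb D E) ^ 2 := by
  have hlin : H697.Three.LinStmt.{u} p := H697.Three.lin_of_res (H698.MainRes.res (fun T _ _ _ h => hfine T h) p)
  by_cases h22 : p < 23
  · exact H61.S4790.lin_small h5 h22 hpE hcop hirr hne (fun h => H724.S4790.ps_two h5 hpE hcop hlin hirr hne h)
  · have h1 := (ps_all (by omega) (fun T _ _ _ h => hfine T h) (fun T _ _ _ h => hB T h) hlin (Nat.card E) D E le_rfl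
      hpE hcop hirr).2 hne
    obtain ⟨k, hk⟩ : ∃ k, Nat.card (ConjClasses D) = k := ⟨_, rfl⟩
    obtain ⟨r, hr⟩ : ∃ r, orb D E = r := ⟨_, rfl⟩
    rw [hk, hr] at h1 ⊢
    obtain ⟨q, hq⟩ : ∃ q, p - 1 = q := ⟨_, rfl⟩
    rw [hq] at h1 ⊢
    zify at h1 ⊢
    nlinarith [sq_nonneg ((k : ℤ) - r)]

end

end Cfsg.Agent.H697.Alm
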