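import Cfsg.Agent.H342.S4790.CaseTwo
import Cfsg.Agent.H342.S4790.Three
import Cfsg.Agent.H117.S4790.OddCent
import Cfsg.Agent.H775.S4790.Quot

/-!
# S4790: the primes two and three
-/

set_option autoImplicit false

namespace Cfsg.Agent.H697.Alm

universe u

variable {G : Type u} [Group G] [Finite G]

theorem three_le_apr_three (hd : 3 ∣ Nat.card G) : 3 ≤ apr 3 G :=
  H342.S4790.three_le_apr_three hd

theorem case_two (hd : 2 ∣ Nat.card G) : 4 * (2 - 1) ≤ apr 2 G ^ 2 ∧ (apr 2 G ^ 2 = 4 * (2 - 1) → Ext 2 G) :=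
  H342.S4790.case_two_of (fun _ _ _ N _ => H775.S4790.apr_quot Nat.prime_two N)
    (fun _ _ _ N _ h1 h2 => H775.S4790.apr_quot_lt Nat.prime_two N h1 h2)
    (fun _ _ _ h1 h2 => H117.S4790.exists_odd_centralizer h1 h2) hd

end Cfsg.Agent.H697.Alm
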