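import Cfsg.Agent.H697.Alm.LinMain
import Cfsg.Agent.H697.OneClass
import Cfsg.Agent.H488.S4790.Red
import Cfsg.Agent.H978.Alm.Affine
import Cfsg.Agent.H978.Alm.Nonab
import Cfsg.Agent.H736.S4790.Cyc
import Cfsg.Agent.H775.S4790.Quot
import Cfsg.Agent.H705.S4790.StepFin
import Cfsg.Agent.H705.S4790.Ext
import Cfsg.Agent.H352.S4790.Kap
import Cfsg.Agent.H697.Alm.CaseTwo

/-!
# S4790: final assembly
-/

set_option autoImplicit false

namespace Cfsg.Agent.H697.Alm

open Cfsg

universe u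

/-- Itô–Michler for almost simple groups -/
theorem hIM_of {p : ℕ} [hp : Fact p.Prime] (hIM : OneClass.RowIM.{u} p) (A : Type u) [Group A] [Finite A] (S : Subgroup A)
    (hSn : S.Normal) (hs : IsSimpleGroup S) (hna : ¬ IsMulCommutative S)
    (hc : Subgroup.centralizer (S : Set A) = ⊥) (hd : p ∣ Nat.card S) :
    ∃ χ : A → ℂ, IsIrrCharacter A χ ∧ p ∣ charDegree χ := by
  obtain ⟨P⟩ : Nonempty (Sylow p A) := inferInstance
  have hP1 : (P : Subgroup A) ≠ ⊥ := by
    intro h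
    have h1 := P.dvd_card_of_dvd_card (hd.trans (Subgroup.card_subgroup_dvd_card S))
    rw [h, Subgroup.card_bot] at h1
    exact hp.out.one_lt.ne' (Nat.dvd_one.1 h1)
  have hPn : ¬ (P : Subgroup A).Normal := by
    intro hn
    have h4 : ((P : Subgroup A).subgroupOf S).Normal := inferInstance
    rcases hs.eq_bot_or_eq_top_of_normal _ h4 with h5 | h5
    · -- commute
      rw [Subgroup.subgroupOf_eq_bot] at h5
      apply hP1
      rw [eq_bot_iff, ← hc]
      intro x hx
      rw [Subgroup.mem_centralizer_iff]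
      intro s hs'
      have h6 : s * x * s⁻¹ * x⁻¹ ∈ (P : Subgroup A) := (P : Subgroup A).mul_mem (hn.conj_mem x hx s) ((P : Subgroup A).inv_mem hx)
      have h7 : s * x * s⁻¹ * x⁻¹ ∈ S := by
        have : s * x * s⁻¹ * x⁻¹ = s * (x * s⁻¹ * x⁻¹) := by group
        rw [this]
        exact S.mul_mem hs' (hSn.conj_mem _ (S.inv_mem hs') x)
      have h8 := Subgroup.disjoint_def.1 h5 h6 h7
      have h9 : s * x * s⁻¹ = x := mul_inv_eq_one.1 h8
      exact mul_inv_eq_iff_eq_mul.1 h9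
    · rw [Subgroup.subgroupOf_eq_top] at h5
      have hPS : IsPGroup p S := P.isPGroup'.to_le h5
      have hnil : Group.IsNilpotent S := hPS.isNilpotent
      have hsol : Group.IsSolvable S := inferInstance
      apply hna
      have h6 := hs.comm_iff_isSolvable.2 hsol
      exact ⟨⟨h6⟩⟩
  obtain ⟨χ, hχ⟩ := hIM A P hPn
  exact ⟨χ, χ.2, hχ⟩

/-- many classes of `p'`-elements -/
theorem hNC_of {p : ℕ} [hp : Fact p.Prime] (hNC : OneClass.RowNC.{u} p) (A : Type u) [Group A] [Finite A] (S : Subgroup A)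
    (hSn : S.Normal) (hs : IsSimpleGroup S) (hna : ¬ IsMulCommutative S)
    (hc : Subgroup.centralizer (S : Set A) = ⊥) (hcyc : ∀ P : Sylow p A, ¬ IsCyclic P) (hi : ¬ p ∣ S.index) :
    p ≤ kreg p A := by
  obtain ⟨P⟩ : Nonempty (Sylow p A) := inferInstance
  have hPS : (P : Subgroup A) ≤ S := by
    have h1 : (P : Subgroup A).relIndex S ≠ 0 := Subgroup.FiniteIndex.index_ne_zero
    intro x hx
    have h2 : Nat.Coprime (orderOf (QuotientGroup.mk x : A ⧸ S)) p := by
      rw [Nat.coprime_comm, hp.out.coprime_iff_not_dvd]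
      intro h
      exact hi (h.trans (by rw [Subgroup.index_eq_card]; exact orderOf_dvd_natCard _))
    have h3 : orderOf (QuotientGroup.mk x : A ⧸ S) = 1 := by
      obtain ⟨k, hk⟩ := (IsPGroup.iff_orderOf.1 P.isPGroup') ⟨x, hx⟩
      rw [← Subgroup.orderOf_coe] at hk
      have h4 : orderOf (QuotientGroup.mk x : A ⧸ S) ∣ p ^ k := by
        rw [← hk]
        exact orderOf_map_dvd (QuotientGroup.mk' S) x
      exact Nat.Coprime.eq_one_of_dvd (h2.pow_right k) h4
    rw [orderOf_eq_one_iff, QuotientGroup.eq_one_iff] at h3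
    exact h3
  let φ : A →* MulAut S := MulAut.conjNormal
  have hφ : Function.Injective φ := by
    rw [← MonoidHom.ker_eq_bot_iff, eq_bot_iff, ← hc]
    intro g hg
    rw [Subgroup.mem_centralizer_iff]
    intro t ht
    have h4 : φ g ⟨t, ht⟩ = ⟨t, ht⟩ := by
      rw [MonoidHom.mem_ker] at hg
      rw [hg]
      rfl
    have h5 : g * t * g⁻¹ = t := by
      have := congrArg Subtype.val h4
      rwa [MulAut.conjNormal_apply] at this
    exact (mul_inv_eq_iff_eq_mul.1 h5).symm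
  have hle : (MulAut.conj : S →* MulAut S).range ≤ φ.range := by
    rintro _ ⟨t, rfl⟩
    refine ⟨t, ?_⟩
    apply MulEquiv.ext
    intro s
    apply Subtype.ext
    rw [MulAut.conjNormal_apply]
    rfl
  have h6 := hNC S hna (P.subtype hPS) (fun h => hcyc P (by
    have h5 : ((P.subtype hPS : Sylow p S) : Subgroup S) = (P : Subgroup A).subgroupOf S := rfl
    rw [h5] at h
    exact isCyclic_of_surjective (Subgroup.subgroupOfEquivOfLe hPS).toMonoidHom
      (Subgroup.subgroupOfEquivOfLe hPS).surjective)) φ.range hle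
  rw [← Pk.card_congr (MonoidHom.ofInjective hφ)] at h6
  exact h6

/-- the case `p ≥ 5` -/
theorem five {p : ℕ} [hp : Fact p.Prime] (h5 : 5 ≤ p)
    (hfine : ∀ (T : Type u) [Group T] [Finite T] [IsSimpleGroup T], ¬ IsMulCommutative T → H698.Fine.{u, u} T)
    (hB : ∀ (T : Type u) [Group T] [Finite T] [IsSimpleGroup T], ¬ IsMulCommutative T → BndT T)
    (hIM : OneClass.RowIM.{u} p) (hNC : OneClass.RowNC.{u} p)
    {G : Type u} [Group G] [Finite G] (hd : p ∣ Nat.card G) :
    4 * (p - 1) ≤ apr p G ^ 2 ∧ (apr p G ^ 2 = 4 * (p - 1) → Ext p G) := by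
  have hp2 : p ≠ 2 := by omega
  refine reduction_of (fun G _ _ => H352.S4790.kap_le_apr hp.out hp2)
    (fun G _ _ N _ => H775.S4790.apr_quot hp.out N)
    (fun G _ _ N _ hN h => H775.S4790.apr_quot_lt hp.out N hN h)
    (fun G _ _ N _ hN hext hd' hk => H705.S4790.ext_step h5 N hN hext hd' hk) ?_ ?_ hd
  · intro G _ _ N _ hN hNc hmin hN1 hi hc
    exact H978.Alm.affine h5 (fun D E _ _ _ _ _ _ _ hpE hcop hirr hne =>
      lin_of h5 (fun T _ _ _ h => hfine T h) (fun T _ _ _ h => hB T h) hpE hcop hirr hne) N hN hNc hmin hN1 hi hc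
  · intro G _ _ N _ hmin hN1 hNc hi hdN hc
    exact H978.Alm.Nonab.nonab_of_cyc h5 N hmin hN1 hNc hi hdN hc
      (fun A _ _ S h1 h2 h3 h4 h6 => hIM_of hIM A S h1 h2 h3 h4 h6)
      (fun A _ _ S h1 h2 h3 h4 h6 h7 => hNC_of hNC A S h1 h2 h3 h4 h6 h7)
      (fun A _ _ P hc' hd' hdeg => H736.S4790.cyc P hc' hd' hdeg)

/-- **S4790** -/
theorem final {G : Type u} [Group G] [Finite G] (p : ℕ) (hp : p.Prime) (hdvd : p ∣ Nat.card G)
    (hfine : ∀ (T : Type u) [Group T] [Finite T] [IsSimpleGroup T], ¬ IsMulCommutative T → H698.Fine.{u, u} T)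
    (hB : ∀ (T : Type u) [Group T] [Finite T] [IsSimpleGroup T], ¬ IsMulCommutative T → BndT T)
    (hIM : ∀ p : ℕ, [Fact p.Prime] → OneClass.RowIM.{u} p) (hNC : ∀ p : ℕ, [Fact p.Prime] → OneClass.RowNC.{u} p) :
    4 * (p - 1) ≤ apr p G ^ 2 ∧ (apr p G ^ 2 = 4 * (p - 1) ↔ Ext p G) := by
  have hpf : Fact p.Prime := ⟨hp⟩
  have key : 4 * (p - 1) ≤ apr p G ^ 2 ∧ (apr p G ^ 2 = 4 * (p - 1) → Ext p G) := by
    by_cases h5 : 5 ≤ p
    · exact five h5 (fun T _ _ _ h => hfine T h) (fun T _ _ _ h => hB T h) (hIM p) (hNC p) hdvd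
    · have h4 : p ≠ 4 := by
        rintro rfl
        norm_num at hp
      have h23 : p = 2 ∨ p = 3 := by
        have := hp.two_le
        omega
      rcases h23 with rfl | rfl
      · exact case_two hdvd
      · have h3 := three_le_apr_three hdvd
        have h6 : 9 ≤ apr 3 G ^ 2 := by nlinarith
        refine ⟨by omega, fun h => ?_⟩
        omega
  refine ⟨key.1, key.2, ?_⟩
  rintro ⟨s, e, N, C, hs, hN, hNc, hNe, hCc, hCs, hNC', hG, hfr⟩
  have h1 := H705.S4790.apr_le_of_ext hp N C hs hN hNc hNe hCc hCs hNC' hG hfr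
  have h2 := key.1
  apply le_antisymm _ h2
  rw [← hs]
  calc apr p G ^ 2 ≤ (2 * s) ^ 2 := Nat.pow_le_pow_left h1 2
    _ = 4 * s ^ 2 := by ring

end Cfsg.Agent.H697.Alm
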