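import Cfsg.Agent.H698.Fine
import Cfsg.Agent.H697.Alm.Defs

/-!
# S4790: the order bound for simple groups (T7, T8)
-/

set_option autoImplicit false

namespace Cfsg.Agent.H697.Alm

universe u

/-- the bound for a simple group needed here -/
def BndT (T : Type u) [Group T] : Prop :=
  ∀ p m : ℕ, p.Prime → 23 ≤ p → ¬ p ∣ Nat.card T → 3 ≤ m → H698.Rep.{u, u} p m T →
    Nat.card (MulAut T) ≤ 6 * p ^ (m - 1)

end Cfsg.Agent.H697.Alm
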